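import Groth.Agent.Lib.TowerExt.Tower
import Groth.Agent.Lib.ZarCoh.Basic
import Groth.Agent.Lib.MLSeq.Basic
import Mathlib.Topology.Sheaves.LocallySurjective

/-!
Towers of abelian sheaves on a topological space that are acyclic on a basis.
-/

set_option autoImplicit false
set_option linter.unusedSectionVars false

universe u

open CategoryTheory CategoryTheory.Limits CategoryTheory.Abelian Opposite TopologicalSpace

namespace Groth.Agent.Lib.TowerExt.Opens

open Groth.Agent.Lib.ZarCoh.Basic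

variable {X : TopCat.{u}} (B : Set (Opens X))

/-- The free sheaves on the opens of the basis. -/
noncomputable abbrev gen : B → CohTop.Ab X := fun V => Zs.obj V.1

theorem detects (hB : Opens.IsBasis B) : Detects (gen B) := by
  intro F G g hg
  have : TopCat.Presheaf.IsLocallySurjective g.hom := by
    refine (TopCat.Presheaf.isLocallySurjective_iff _).2 fun U t x hx => ?_
    obtain ⟨V, hV, hxV, hVU⟩ := Opens.isBasis_iff_nbhd.1 hB hx
    obtain ⟨s, hs⟩ := hg ⟨V, hV⟩ ((homEquiv V G).symm (G.obj.map (homOfLE hVU).op t))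
    refine ⟨V, hVU, ⟨homEquiv V F s, ?_⟩, hxV⟩
    rw [← homEquiv_comp, hs, Equiv.apply_symm_apply]
    rfl
  have : Sheaf.IsLocallySurjective g := this
  exact Sheaf.epi_of_isLocallySurjective g

variable (F : ℕᵒᵖ ⥤ CohTop.Ab X)

theorem lift_trans (hsurj : ∀ U ∈ B, ∀ k : ℕ,
      Function.Surjective ((F.map (homOfLE (Nat.le_succ k)).op).hom.app (op U)).hom)
    (V : B) (n : ℕ) (y : gen B V ⟶ obj F n) :
    ∃ x : gen B V ⟶ obj F (n + 1), x ≫ trans F n = y := by
  obtain ⟨s, hs⟩ := hsurj V.1 V.2 n (homEquiv V.1 _ y)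
  exact ⟨(homEquiv V.1 _).symm s,
    (homEquiv V.1 _).injective (by rw [homEquiv_comp, Equiv.apply_symm_apply]; exact hs)⟩

theorem acyclic (hvan : ∀ U ∈ B, ∀ (k i : ℕ), 0 < i → Subsingleton (CohTop.HU (F.obj (op k)) i U))
    (n : ℕ) : Acyclic (gen B) (obj F n) :=
  fun V i hi => hvan V.1 V.2 n i hi

theorem subsingleton_limOne (G : ℕᵒᵖ ⥤ AddCommGrpCat.{u})
    (hG : (G ⋙ forget AddCommGrpCat).IsMittagLeffler) :
    Subsingleton (Formal2.limOne (fun n => G.obj (op n))
      (fun n => (G.map (homOfLE (Nat.le_succ n)).op).hom)) := by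
  refine subsingleton_of_forall_eq 0 fun q => ?_
  obtain ⟨a, rfl⟩ := QuotientAddGroup.mk_surjective q
  refine (QuotientAddGroup.eq_zero_iff a).2 ?_
  obtain ⟨x, hx⟩ := MLSeq.Basic.exists_primitive (F := G) (φ := fun n => n) (fun _ _ h => h)
    (fun i => ⟨i, le_rfl⟩) ((MLSeq.Basic.ml_iff G).1 hG) a
  exact ⟨x, funext hx⟩

end Groth.Agent.Lib.TowerExt.Opens
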