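import Mathlib.Algebra.Homology.DerivedCategory.Ext.EnoughInjectives
import Mathlib.Algebra.Homology.DerivedCategory.Ext.ExactSequences
import Mathlib.CategoryTheory.Abelian.Injective.Basic
import Mathlib.CategoryTheory.Limits.Shapes.Products

/-!
`Ext` commutes with countable products of objects that are acyclic for a family of detecting objects.

If the objects `gen k` detect epimorphisms and `Ext^i(gen k, F n) = 0` for all `i > 0`, then
`Ext^i(A, ∏ F) → ∏ Ext^i(A, F n)` is bijective for every `A` and `i`.
-/

set_option autoImplicit false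
set_option linter.unusedSectionVars false

universe w v u

open CategoryTheory CategoryTheory.Limits CategoryTheory.Abelian

namespace Groth.Agent.Lib.TowerExt

variable {C : Type u} [Category.{v} C] [Abelian C] [HasExt.{w} C]
variable {κ : Type w} (gen : κ → C)

/-- Morphisms surjective on the detecting objects are epimorphisms. -/
def Detects : Prop :=
  ∀ {F G : C} (g : F ⟶ G), (∀ k (y : gen k ⟶ G), ∃ x : gen k ⟶ F, x ≫ g = y) → Epi g

/-- The higher `Ext` groups out of the detecting objects vanish. -/
def Acyclic (F : C) : Prop := ∀ k (i : ℕ), 0 < i → Subsingleton (Ext.{w} (gen k) F i)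

theorem mk₀_surjective {X Y : C} (e : Ext.{w} X Y 0) : ∃ f : X ⟶ Y, Ext.mk₀ f = e :=
  ⟨Ext.addEquiv₀ e, by simp [Ext.addEquiv₀, Ext.mk₀_homEquiv₀_apply]⟩

theorem acyclic_of_injective (I : C) [Injective I] : Acyclic gen I := fun k i hi => by
  obtain ⟨j, rfl⟩ : ∃ j, i = j + 1 := ⟨i - 1, by omega⟩
  exact subsingleton_of_forall_eq 0 fun x => Ext.eq_zero_of_injective x

variable {gen} {S : ShortComplex C}

theorem exists_lift_gen (hS : S.ShortExact) (h : Acyclic gen S.X₁) (k : κ) (y : gen k ⟶ S.X₃) :
    ∃ x : gen k ⟶ S.X₂, x ≫ S.g = y := by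
  obtain ⟨e, he⟩ := Ext.covariant_sequence_exact₃ (gen k) hS (Ext.mk₀ y) (zero_add 1)
    (by have := h k 1 Nat.one_pos; exact Subsingleton.elim _ _)
  obtain ⟨x, rfl⟩ := mk₀_surjective e
  rw [Ext.mk₀_comp_mk₀] at he
  exact ⟨x, (Ext.mk₀_bijective _ _).1 he⟩

theorem acyclic_quotient (hS : S.ShortExact) (h : Acyclic gen S.X₁) [Injective S.X₂] :
    Acyclic gen S.X₃ := fun k i hi => subsingleton_of_forall_eq 0 fun e => by
  obtain ⟨e', rfl⟩ := Ext.covariant_sequence_exact₃ (gen k) hS e rfl
    (by have := h k (i + 1) (Nat.succ_pos i); exact Subsingleton.elim _ _)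
  obtain ⟨j, rfl⟩ : ∃ j, i = j + 1 := ⟨i - 1, by omega⟩
  rw [Ext.eq_zero_of_injective e', Ext.zero_comp]

variable [HasProductsOfShape ℕ C]

/-- The comparison map from `Ext` into a product. -/
noncomputable def piCompare (A : C) (F : ℕ → C) (i : ℕ) :
    Ext.{w} A (∏ᶜ F) i →+ ∀ n, Ext.{w} A (F n) i :=
  AddMonoidHom.pi fun n => (Ext.mk₀ (Pi.π F n)).postcomp A (add_zero i)

theorem piCompare_apply (A : C) (F : ℕ → C) (i : ℕ) (x : Ext.{w} A (∏ᶜ F) i) (n : ℕ) :
    piCompare A F i x n = x.comp (Ext.mk₀ (Pi.π F n)) (add_zero i) := rfl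

theorem piCompare_bijective_zero (A : C) (F : ℕ → C) : Function.Bijective (piCompare A F 0) := by
  constructor
  · intro a b hab
    obtain ⟨f, rfl⟩ := mk₀_surjective a
    obtain ⟨g, rfl⟩ := mk₀_surjective b
    refine congrArg Ext.mk₀ (Pi.hom_ext _ _ fun n => (Ext.mk₀_bijective _ _).1 ?_)
    have := congrFun hab n
    rwa [piCompare_apply, piCompare_apply, Ext.mk₀_comp_mk₀, Ext.mk₀_comp_mk₀] at this
  · intro y
    choose f hf using fun n => mk₀_surjective (y n)
    exact ⟨Ext.mk₀ (Pi.lift f), funext fun n => by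
      rw [piCompare_apply, Ext.mk₀_comp_mk₀, Pi.lift_π, hf]⟩

section

variable [EnoughInjectives C] (hgen : Detects gen) (F : ℕ → C)

/-- An injective embedding with its cokernel. -/
noncomputable abbrev injS (G : C) : ShortComplex C :=
  ShortComplex.mk (Injective.ι G) (cokernel.π (Injective.ι G)) (cokernel.condition _)

theorem injS_shortExact (G : C) : (injS G).ShortExact :=
  { exact := ShortComplex.exact_cokernel (Injective.ι G) }

/-- The product of the injective embeddings. -/
noncomputable abbrev piS : ShortComplex C :=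
  ShortComplex.mk (Limits.Pi.map fun n => (injS (F n)).f) (Limits.Pi.map fun n => (injS (F n)).g)
    (Pi.hom_ext _ _ fun n => by simp)

include hgen in
theorem piS_shortExact (hF : ∀ n, Acyclic gen (F n)) : (piS F).ShortExact := by
  have hmono : Mono (piS F).f := ⟨fun a b hab => Pi.hom_ext _ _ fun n => by
    rw [← cancel_mono (injS (F n)).f, Category.assoc, Category.assoc]
    simpa using congrArg (fun t => t ≫ Pi.π (fun m => (injS (F m)).X₂) n) hab⟩
  have hepi : Epi (piS F).g := by
    refine hgen _ fun k y => ?_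
    choose x hx using fun n => exists_lift_gen (injS_shortExact (F n)) (hF n) k (y ≫ Pi.π _ n)
    exact ⟨Pi.lift x, Pi.hom_ext _ _ fun n => by simpa using hx n⟩
  refine { exact := ShortComplex.exact_of_f_is_kernel _ ?_ }
  refine KernelFork.IsLimit.ofι' _ _ fun {W} t ht => ⟨Pi.lift fun n =>
    (injS_shortExact (F n)).exact.lift (t ≫ Pi.π _ n) ?_, ?_⟩
  · have := congrArg (fun s => s ≫ Pi.π (fun m => (injS (F m)).X₃) n) ht
    simpa using this
  · refine Pi.hom_ext _ _ fun n => ?_
    simp only [Category.assoc, Limits.Pi.map_π, Pi.lift_π_assoc]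
    exact (injS_shortExact (F n)).exact.lift_f _ _

theorem piS_naturality (hgen : Detects gen) (hF : ∀ n, Acyclic gen (F n)) (n : ℕ) :
    (Ext.mk₀ (Pi.π (fun m => (injS (F m)).X₃) n)).comp (injS_shortExact (F n)).extClass
        (zero_add 1) =
      (piS_shortExact hgen F hF).extClass.comp (Ext.mk₀ (Pi.π F n)) (add_zero 1) :=
  (ShortComplex.ShortExact.extClass_naturality
    (piS_shortExact hgen F hF) (injS_shortExact (F n))
    (ShortComplex.homMk (Pi.π _ n) (Pi.π _ n) (Pi.π _ n) (by simp) (by simp))).symm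

include hgen in
theorem piCompare_bijective (A : C) : ∀ (i : ℕ) (F : ℕ → C), (∀ n, Acyclic gen (F n)) →
    Function.Bijective (piCompare A F i) := by
  intro i
  induction i with
  | zero => exact fun F _ => piCompare_bijective_zero A F
  | succ i ih =>
    intro F hF
    have hS := piS_shortExact hgen F hF
    have hI : ∀ n, Acyclic gen (injS (F n)).X₂ := fun n => acyclic_of_injective gen _
    have hQ : ∀ n, Acyclic gen (injS (F n)).X₃ := fun n =>
      acyclic_quotient (injS_shortExact (F n)) (hF n)
    -- the connecting map commutes with the comparison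
    have hcomm : ∀ (z : Ext.{w} A (piS F).X₃ i) (n : ℕ),
        piCompare A F (i + 1) (z.comp hS.extClass rfl) n =
          (piCompare A (fun m => (injS (F m)).X₃) i z n).comp (injS_shortExact (F n)).extClass
            rfl := by
      intro z n
      rw [piCompare_apply, piCompare_apply, Ext.comp_assoc_of_third_deg_zero,
        ← piS_naturality F hgen hF n, Ext.comp_assoc_of_second_deg_zero]
    have hinj : ∀ (x : Ext.{w} A (piS F).X₁ (i + 1)),
        ∃ z : Ext.{w} A (piS F).X₃ i, z.comp hS.extClass rfl = x := fun x =>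
      Ext.covariant_sequence_exact₁ A hS x (Ext.eq_zero_of_injective _) rfl
    constructor
    · refine (injective_iff_map_eq_zero _).2 fun x hx => ?_
      obtain ⟨z, rfl⟩ := hinj x
      choose a ha using fun n => Ext.covariant_sequence_exact₃ A (injS_shortExact (F n))
        (piCompare A (fun m => (injS (F m)).X₃) i z n) rfl ((hcomm z n).symm.trans (congrFun hx n))
      obtain ⟨a', ha'⟩ := (ih _ hI).2 a
      have e : z = a'.comp (Ext.mk₀ (piS F).g) (add_zero i) := (ih _ hQ).1 <| funext fun n => by
        rw [← ha n, ← ha', piCompare_apply, piCompare_apply, Ext.comp_assoc_of_third_deg_zero,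
          Ext.comp_assoc_of_third_deg_zero, Ext.mk₀_comp_mk₀, Ext.mk₀_comp_mk₀]
        congr 2
        simp
      rw [e, Ext.comp_assoc_of_second_deg_zero, ShortComplex.ShortExact.comp_extClass,
        Ext.comp_zero]
    · intro y
      choose z hz using fun n => Ext.covariant_sequence_exact₁ A (injS_shortExact (F n)) (y n)
        (Ext.eq_zero_of_injective _) rfl
      obtain ⟨z', hz'⟩ := (ih _ hQ).2 z
      exact ⟨z'.comp hS.extClass rfl, funext fun n => by rw [hcomm, hz', hz]⟩

end

end Groth.Agent.Lib.TowerExt
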