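import Groth.Agent.Lib.TowerExt.Products
import Groth.Prelude.Def_Formal2
import Mathlib.CategoryTheory.Functor.OfSequence

/-!
`0 → lim¹ Ext^j(A, F n) → Ext^(j+1)(A, lim F) → lim Ext^(j+1)(A, F n) → 0` for a tower `F` of objects
acyclic for detecting objects, with transition maps surjective on these.
-/

set_option autoImplicit false
set_option linter.unusedSectionVars false

universe w v u

open CategoryTheory CategoryTheory.Limits CategoryTheory.Abelian Opposite

namespace Groth.Agent.Lib.TowerExt

variable {C : Type u} [Category.{v} C] [Abelian C] [HasExt.{w} C] [HasProductsOfShape ℕ C]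
variable {κ : Type w} {gen : κ → C} (F : ℕᵒᵖ ⥤ C)

/-- The objects of a tower. -/
abbrev obj (n : ℕ) : C := F.obj (op n)

/-- The transition maps of a tower. -/
abbrev trans (n : ℕ) : obj F (n + 1) ⟶ obj F n := F.map (homOfLE (Nat.le_succ n)).op

/-- `1 − shift` on the product of a tower. -/
noncomputable def diff : ∏ᶜ obj F ⟶ ∏ᶜ obj F :=
  Pi.lift fun n => Pi.π (obj F) n - Pi.π (obj F) (n + 1) ≫ trans F n

@[reassoc]
theorem diff_π (n : ℕ) :
    diff F ≫ Pi.π (obj F) n = Pi.π (obj F) n - Pi.π (obj F) (n + 1) ≫ trans F n :=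
  Pi.lift_π _ _

/-- The inclusion of the limit into the product. -/
noncomputable def incl [HasLimit F] : limit F ⟶ ∏ᶜ obj F := Pi.lift fun n => limit.π F (op n)

theorem incl_π [HasLimit F] (n : ℕ) : incl F ≫ Pi.π (obj F) n = limit.π F (op n) := Pi.lift_π _ _

theorem incl_diff [HasLimit F] : incl F ≫ diff F = 0 := Pi.hom_ext _ _ fun n => by
  rw [Category.assoc, diff_π, Preadditive.comp_sub, incl_π, ← Category.assoc, incl_π,
    limit.w, sub_self, zero_comp]

variable [HasLimit F]

instance mono_incl : Mono (incl F) := ⟨fun a b hab => limit.hom_ext fun n => by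
  obtain ⟨n⟩ := n
  simpa [incl_π] using congrArg (fun t => t ≫ Pi.π (obj F) n) hab⟩

theorem exists_lift_incl {W : C} (t : W ⟶ ∏ᶜ obj F) (ht : t ≫ diff F = 0) :
    ∃ s : W ⟶ limit F, s ≫ incl F = t := by
  have h : ∀ n, (t ≫ Pi.π (obj F) (n + 1)) ≫ trans F n = t ≫ Pi.π (obj F) n := fun n => by
    have := congrArg (fun s => s ≫ Pi.π (obj F) n) ht
    simp only [Category.assoc, diff_π, Preadditive.comp_sub, zero_comp, sub_eq_zero] at this
    rw [Category.assoc, ← this]
  refine ⟨limit.lift F ⟨W, NatTrans.ofOpSequence (fun n => t ≫ Pi.π (obj F) n) fun n => ?_⟩,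
    Pi.hom_ext _ _ fun n => ?_⟩
  · exact (Category.id_comp _).trans (h n).symm
  · rw [Category.assoc, incl_π]
    exact limit.lift_π _ _

/-- Morphisms into the product lifting through `1 − shift`, built by recursion. -/
theorem epi_diff (hgen : Detects gen)
    (hsurj : ∀ k n (y : gen k ⟶ obj F n), ∃ x : gen k ⟶ obj F (n + 1), x ≫ trans F n = y) :
    Epi (diff F) := by
  refine hgen _ fun k y => ?_
  choose l hl using hsurj k
  let x : ∀ n, gen k ⟶ obj F n := fun n =>
    Nat.rec (motive := fun n => gen k ⟶ obj F n) 0 (fun m a => l m (a - y ≫ Pi.π (obj F) m)) n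
  refine ⟨Pi.lift x, Pi.hom_ext _ _ fun n => ?_⟩
  rw [Category.assoc, diff_π, Preadditive.comp_sub, Pi.lift_π, ← Category.assoc, Pi.lift_π]
  change x n - l n (x n - y ≫ Pi.π (obj F) n) ≫ trans F n = _
  rw [hl, sub_sub_cancel]

/-- The sequence of a tower. -/
noncomputable abbrev seq : ShortComplex C := ShortComplex.mk (incl F) (diff F) (incl_diff F)

theorem seq_shortExact (hepi : Epi (diff F)) : (seq F).ShortExact := by
  have : Mono (seq F).f := mono_incl F
  have : Epi (seq F).g := hepi
  refine { exact := ShortComplex.exact_of_f_is_kernel _ ?_ }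
  exact KernelFork.IsLimit.ofι' _ _ fun t ht =>
    ⟨(exists_lift_incl F t ht).choose, (exists_lift_incl F t ht).choose_spec⟩

theorem piCompare_diff (A : C) (i : ℕ) (z : Ext.{w} A (∏ᶜ obj F) i) (n : ℕ) :
    piCompare A (obj F) i (z.comp (Ext.mk₀ (diff F)) (add_zero i)) n =
      piCompare A (obj F) i z n -
        (Ext.mk₀ (trans F n)).postcomp A (add_zero i) (piCompare A (obj F) i z (n + 1)) := by
  have e : Ext.mk₀ (Pi.π (obj F) n) =
      Ext.mk₀ (diff F ≫ Pi.π (obj F) n) + Ext.mk₀ (Pi.π (obj F) (n + 1) ≫ trans F n) := by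
    rw [← Ext.mk₀_add, diff_π, sub_add_cancel]
  rw [eq_sub_iff_add_eq, piCompare_apply, piCompare_apply, piCompare_apply]
  conv_rhs => rw [e, Ext.comp_add]
  rw [Ext.comp_assoc_of_third_deg_zero, Ext.mk₀_comp_mk₀]
  congr 1
  change (z.comp (Ext.mk₀ (Pi.π (obj F) (n + 1))) (add_zero i)).comp (Ext.mk₀ (trans F n))
    (add_zero i) = _
  rw [Ext.comp_assoc_of_third_deg_zero, Ext.mk₀_comp_mk₀]

section Main

variable [EnoughInjectives C] (hgen : Detects gen)
  (hF : ∀ n, Acyclic gen (obj F n))
  (hsurj : ∀ k n (y : gen k ⟶ obj F n), ∃ x : gen k ⟶ obj F (n + 1), x ≫ trans F n = y)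

/-- The comparison of `Ext` of the limit with the families. -/
noncomputable abbrev limCompare (A : C) (i : ℕ) : Ext.{w} A (limit F) i →+ ∀ n, Ext.{w} A (obj F n) i :=
  AddMonoidHom.pi fun n => (Ext.mk₀ (limit.π F (op n))).postcomp A (add_zero i)

theorem limCompare_eq (A : C) (i : ℕ) (x : Ext.{w} A (limit F) i) :
    limCompare F A i x = piCompare A (obj F) i (x.comp (Ext.mk₀ (incl F)) (add_zero i)) :=
  funext fun n => by
    change x.comp (Ext.mk₀ (limit.π F (op n))) (add_zero i) =
      (x.comp (Ext.mk₀ (incl F)) (add_zero i)).comp (Ext.mk₀ (Pi.π (obj F) n)) (add_zero i)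
    rw [Ext.comp_assoc_of_third_deg_zero, Ext.mk₀_comp_mk₀, incl_π]

include hgen hF hsurj in
theorem exists_limCompare_eq (A : C) (i : ℕ) (ξ : ∀ n, Ext.{w} A (obj F n) i)
    (hξ : ∀ n, (Ext.mk₀ (trans F n)).postcomp A (add_zero i) (ξ (n + 1)) = ξ n) :
    ∃ η : Ext.{w} A (limit F) i, limCompare F A i η = ξ := by
  have hb := piCompare_bijective hgen A i (obj F) hF
  obtain ⟨z, hz⟩ := hb.2 ξ
  obtain ⟨η, hη⟩ := Ext.covariant_sequence_exact₂ A (seq_shortExact F (epi_diff F hgen hsurj)) z
    (hb.1 (funext fun n => by rw [piCompare_diff, hz, hξ, sub_self, map_zero]; rfl))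
  exact ⟨η, by rw [limCompare_eq, hη, hz]⟩

include hgen hF hsurj in
theorem nonempty_ker_equiv (A : C) (i j : ℕ) (hij : j + 1 = i) :
    Nonempty ((limCompare F A i).ker ≃+
      Formal2.limOne (fun n => Ext.{w} A (obj F n) j)
        (fun n => (Ext.mk₀ (trans F n)).postcomp A (add_zero j))) := by
  have hS := seq_shortExact F (epi_diff F hgen hsurj)
  let E := AddEquiv.ofBijective _ (piCompare_bijective hgen A j (obj F) hF)
  have hi := piCompare_bijective hgen A i (obj F) hF
  let δ : (∀ n, Ext.{w} A (obj F n) j) →+ Ext.{w} A (limit F) i :=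
    (hS.extClass.postcomp A hij).comp E.symm.toAddMonoidHom
  have hδ : ∀ x, limCompare F A i (δ x) = 0 := fun x => by
    rw [limCompare_eq]
    change piCompare A (obj F) i (((E.symm x).comp hS.extClass hij).comp _ _) = 0
    rw [Ext.comp_assoc_of_third_deg_zero, ShortComplex.ShortExact.extClass_comp, Ext.comp_zero,
      map_zero]
  let δ' : (∀ n, Ext.{w} A (obj F n) j) →+ (limCompare F A i).ker := δ.codRestrict _ hδ
  have hs : Function.Surjective δ' := by
    rintro ⟨η, hη⟩
    obtain ⟨z, hz⟩ := Ext.covariant_sequence_exact₁ A hS η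
      (hi.1 ((limCompare_eq F A i η).symm.trans (hη.trans (map_zero _).symm))) hij
    refine ⟨E z, Subtype.ext ?_⟩
    change (E.symm (E z)).comp hS.extClass hij = η
    rw [E.symm_apply_apply]
    exact hz
  have hk : δ'.ker = (Formal2.towerDiff (fun n => Ext.{w} A (obj F n) j)
      (fun n => (Ext.mk₀ (trans F n)).postcomp A (add_zero j))).range := by
    ext x
    constructor
    · intro hx
      have hx' : (E.symm x).comp hS.extClass hij = 0 := congrArg Subtype.val hx
      obtain ⟨z, hz⟩ := Ext.covariant_sequence_exact₃ A hS (E.symm x) hij hx'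
      refine ⟨E z, funext fun n => ?_⟩
      have := congrArg E hz
      rw [E.apply_symm_apply] at this
      rw [← this]
      exact (piCompare_diff F A j z n).symm
    · rintro ⟨y, rfl⟩
      refine Subtype.ext ?_
      change (E.symm (Formal2.towerDiff _ _ y)).comp hS.extClass hij = 0
      have e : E.symm (Formal2.towerDiff (fun n => Ext.{w} A (obj F n) j)
          (fun n => (Ext.mk₀ (trans F n)).postcomp A (add_zero j)) y) =
          (E.symm y).comp (Ext.mk₀ (diff F)) (add_zero j) := by
        apply E.injective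
        rw [E.apply_symm_apply]
        funext n
        refine Eq.trans ?_ (piCompare_diff F A j (E.symm y) n).symm
        rw [show piCompare A (obj F) j (E.symm y) = y from E.apply_symm_apply y]
        rfl
      rw [e, Ext.comp_assoc_of_second_deg_zero, show diff F = (seq F).g from rfl,
        ShortComplex.ShortExact.comp_extClass,
        Ext.comp_zero]
  exact ⟨((QuotientAddGroup.quotientAddEquivOfEq hk.symm).trans
    (QuotientAddGroup.quotientKerEquivOfSurjective δ' hs)).symm⟩

end Main

end Groth.Agent.Lib.TowerExt
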